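import Cfsg.Agent.H710.GT.EFiveC
import Cfsg.Agent.H779.G2.Stmts3
import Cfsg.Agent.H218.TE.Basic
import Cfsg.Agent.H756.PU.AsmGen

/-!
# S5211 (E2c), (E2): `p = 2`, essential subgroups not contained in `Q_a`, `Q_b` (helper752)
-/

set_option autoImplicit false

namespace Cfsg.Agent.H752.GT

open Cfsg Cfsg.FusionSystem Cfsg.Agent.H802 Cfsg.Agent.H779.G2 Cfsg.Agent.H756.PU Cfsg.Agent.H103.GT Cfsg.Agent.H710.GT

universe u

variable {K : Type u} [Field K]

/-- commuting modulo `Z₂` with an element outside `Q_a ∪ Q_b` -/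
theorem par (h2 : (2 : K) = 0) {g h : GU K} (hc : (g * h * g⁻¹ * h⁻¹).c = 0) (hd : (g * h * g⁻¹ * h⁻¹).d = 0)
    (ha : h.a ≠ 0) (hb : h.b ≠ 0) : (g.a = 0 ∧ g.b = 0) ∨ (g.a = h.a ∧ g.b = h.b) := by
  rw [cm_c] at hc
  rw [cm_d] at hd
  have e1 : g.b * h.a = g.a * h.b := by linear_combination hc
  have e2 : g.a * h.b * (g.a - h.a) = 0 := by
    linear_combination hd + h.a * e1 + (g.a * g.b * h.a - g.a * h.a * h.b + g.a * h.c - g.c * h.a) * h2
  rcases mul_eq_zero.1 e2 with k | k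
  · left
    have h0 : g.a = 0 := (mul_eq_zero.1 k).resolve_right hb
    refine ⟨h0, ?_⟩
    rw [h0, zero_mul] at e1
    exact (mul_eq_zero.1 e1).resolve_right ha
  · right
    have h0 : g.a = h.a := sub_eq_zero.1 k
    refine ⟨h0, ?_⟩
    apply mul_right_cancel₀ ha
    rw [e1, h0, mul_comm]

theorem com_Z4_top2 (h2 : (2 : K) = 0) : Com (Z4 K) ⊤ (Z2 K) := by
  intro x hx y _
  have h := com_Z4_top x hx y trivial
  refine ⟨h.1, h.2.1, h.2.2, ?_⟩
  rw [cm_d, hx.1, hx.2]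
  linear_combination (x.c * y.a) * h2

theorem com_Qb2 (h2 : (2 : K) = 0) : Com (Qb K) (Qb K) (Z2 K) := by
  intro x hx y hy
  have h := com_Qb x hx y hy
  refine ⟨h.1, h.2.1, h.2.2, ?_⟩
  have hx' : x.b = 0 := hx
  have hy' : y.b = 0 := hy
  rw [cm_d, hx', hy']
  linear_combination (-x.a * y.c + x.c * y.a) * h2

/-- the index of `E ∩ Z₄` in `E` -/
theorem rel_le_two [Finite K] {E : Subgroup (GU K)} (α β : K)
    (h : ∀ g ∈ E, (g.a = 0 ∧ g.b = 0) ∨ (g.a = α ∧ g.b = β)) : (E ⊓ Z4 K).relIndex E ≤ 2 := by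
  let ψ : E →* Multiplicative K × Multiplicative K :=
    { toFun := fun g => (Multiplicative.ofAdd (g : GU K).a, Multiplicative.ofAdd (g : GU K).b)
      map_one' := rfl
      map_mul' := fun g h => rfl }
  have h1 : (E ⊓ Z4 K).subgroupOf E = ψ.ker := by
    ext g
    rw [Subgroup.mem_subgroupOf, MonoidHom.mem_ker]
    constructor
    · intro hg
      exact Prod.ext hg.2.1 hg.2.2
    · intro hg
      exact ⟨g.2, congrArg Prod.fst hg, congrArg Prod.snd hg⟩
  rw [Subgroup.relIndex, h1, Subgroup.index_ker]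
  have h2 : ((ψ.range : Subgroup _) : Set (Multiplicative K × Multiplicative K)) ⊆
      {1, (Multiplicative.ofAdd α, Multiplicative.ofAdd β)} := by
    rintro _ ⟨g, rfl⟩
    rcases h g g.2 with ⟨h3, h4⟩ | ⟨h3, h4⟩
    · left
      exact Prod.ext h3 h4
    · right
      exact Prod.ext h3 h4
  calc Nat.card ψ.range = ((ψ.range : Subgroup _) : Set (Multiplicative K × Multiplicative K)).ncard := rfl
    _ ≤ ({1, (Multiplicative.ofAdd α, Multiplicative.ofAdd β)} : Set (Multiplicative K × Multiplicative K)).ncard :=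
      Set.ncard_le_ncard h2 (Set.toFinite _)
    _ ≤ ({(Multiplicative.ofAdd α, Multiplicative.ofAdd β)} : Set (Multiplicative K × Multiplicative K)).ncard + 1 :=
      Set.ncard_insert_le _ _
    _ = 2 := by rw [Set.ncard_singleton]

/-- `[y, E] ≤ N` is preserved by `Γ` -/
theorem inv_el {Ω : Type*} [Group Ω] {E : Subgroup Ω} {Γ : Subgroup (MulAut E)} {N : Subgroup Ω}
    (hN : Inv Γ N) {γ : MulAut E} (hγ : γ ∈ Γ) {e : E} (he : ∀ b ∈ E, (e : Ω) * b * (e : Ω)⁻¹ * b⁻¹ ∈ N) :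
    ∀ b ∈ E, ((γ e : E) : Ω) * b * ((γ e : E) : Ω)⁻¹ * b⁻¹ ∈ N := by
  intro b hb
  have h5 := hN.2 γ hγ (e * (γ⁻¹ ⟨b, hb⟩) * e⁻¹ * (γ⁻¹ ⟨b, hb⟩)⁻¹) (he _ (γ⁻¹ ⟨b, hb⟩).2)
  have h6 : γ (γ⁻¹ (⟨b, hb⟩ : E)) = ⟨b, hb⟩ := MulAut.apply_inv_self E γ ⟨b, hb⟩
  rw [map_mul, map_mul, map_mul, map_inv, map_inv, h6] at h5
  exact h5

theorem le_norm {E A N : Subgroup (GU K)} (hN : N ≤ E) (h : Com A ⊤ N) : A ≤ normalizerIn ⊤ E := by
  intro x hx
  refine Subgroup.mem_inf.2 ⟨Subgroup.mem_top _, ?_⟩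
  have h1 : ∀ w ∈ A, ∀ e ∈ E, w * e * w⁻¹ ∈ E := by
    intro w hw e he
    have h2 : w * e * w⁻¹ = w * e * w⁻¹ * e⁻¹ * e := by group
    rw [h2]
    exact E.mul_mem (hN (h w hw e trivial)) he
  rw [Subgroup.mem_normalizer_iff]
  intro e
  refine ⟨h1 x hx e, fun h => ?_⟩
  have h2 := h1 x⁻¹ (A.inv_mem hx) _ h
  rwa [inv_inv, ← mul_assoc, ← mul_assoc, inv_mul_cancel, one_mul, inv_mul_cancel_right] at h2

/-- (E2c) -/
theorem stE2c (hkb : StKB.{u}) : StE2c.{u} := by
  intro K _ n hG hn E Γ hE hb ha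
  haveI := hG.fin
  haveI := hG.char
  have h2 : (2 : K) = 0 := CharTwo.two_eq_zero
  have h3 : (3 : K) ≠ 0 := by
    have : (3 : K) = 1 := by linear_combination h2
    rw [this]; exact one_ne_zero
  have hq : 4 ≤ Nat.card K := by
    rw [hG.card]
    calc 4 = 2 ^ 2 := rfl
      _ ≤ 2 ^ n := Nat.pow_le_pow_right (by norm_num) hn
  obtain ⟨x, hx, xa, xb⟩ := exists_both hb ha
  have hpR : IsPGroup 2 E := hE.pgr.of_injective (Subgroup.inclusion hE.E_le) (Subgroup.inclusion_injective _)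
  obtain ⟨hΦE, hEE, -, -, -, -⟩ := H218.TE.stPhi E 2 Nat.prime_two inferInstance hpR
  have hZ1E : Z1 K ≤ E := fun y hy => hE.cent y trivial fun e _ => (comm_Z1 e hy).symm
  have iE := inv_self Γ (E := E)
  have hrel : ∀ C : Subgroup (GU K), (C ⊔ (frattini E).map E.subtype).relIndex E ≤ C.relIndex E := fun C =>
    Subgroup.relIndex_le_of_le_left le_sup_left (Nat.pos_iff_ne_zero.1 (Nat.pos_of_ne_zero (by
      rw [Subgroup.relIndex]; exact Subgroup.index_ne_zero_of_finite)))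
  -- (C1)
  have hZ2 : Z2 K ≤ E := by
    by_contra hcon
    set M : Subgroup (GU K) := E ⊓ Subgroup.centralizer (E : Set (GU K)) with hM
    have hMm : ∀ y, y ∈ M ↔ y ∈ E ∧ ∀ b ∈ E, y * b * y⁻¹ * b⁻¹ ∈ (⊥ : Subgroup (GU K)) := by
      intro y
      rw [hM, Subgroup.mem_inf, Subgroup.mem_centralizer_iff]
      refine and_congr_right fun _ => forall₂_congr fun b _ => ?_
      rw [cm_one]
      exact eq_comm
    have iM : Inv Γ M := inv_cent iE iE (inv_bot Γ) hMm
    have hZ1M : Z1 K ≤ M := fun y hy => (hMm y).2 ⟨hZ1E hy, fun b _ => cm_one.2 (comm_Z1 b hy).symm⟩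
    by_cases hMb : M ≤ Qb K
    · apply hcon
      refine H732.PU.stChain hE M M M iM iM iM le_rfl le_rfl (Z2 K) le_top ?_ ?_ ?_ ?_
      · exact fun y hy e _ => hZ1M (com_Z2_top y hy e trivial)
      · exact fun y hy e _ => hZ1M (com_Z2_top y hy e trivial)
      · exact fun y hy e _ => hZ1M (com_Z2_top y hy e trivial)
      · exact fun y hy m hm => (comm_Qb_Z2 (hMb hm) hy).symm
    · obtain ⟨z, hz, hzb⟩ := SetLike.not_le_iff_exists.1 hMb
      have hzb' : z.b ≠ 0 := hzb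
      obtain ⟨hzE, hzc⟩ := (hMm z).1 hz
      have hz1 : ∀ b ∈ E, z * b * z⁻¹ * b⁻¹ = 1 := fun b hb => Subgroup.mem_bot.1 (hzc b hb)
      have hzx : z.a = x.a ∧ z.b = x.b := by
        have e1 := hz1 x hx
        rcases par h2 (g := z) (h := x) (by rw [e1]; rfl) (by rw [e1]; rfl) xa xb with h | h
        · exact absurd h.2 hzb'
        · exact h
      have hall : ∀ g ∈ E, (g.a = 0 ∧ g.b = 0) ∨ (g.a = z.a ∧ g.b = z.b) := by
        intro g hg
        have e1 : g * z * g⁻¹ * z⁻¹ = 1 := by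
          have e2 := cm_one.1 (hzc g hg)
          rw [← Subgroup.mem_bot, cm_one, e2]
        exact par h2 (by rw [e1]; rfl) (by rw [e1]; rfl) (by rw [hzx.1]; exact xa) hzb'
      have hint : E ⊓ Z2 K = Z1 K := by
        refine le_antisymm (fun y hy => ?_) (le_inf hZ1E Z1_le_Z2)
        obtain ⟨hyE, hy2⟩ := hy
        obtain ⟨y1, y2, y3, y4⟩ := mem_Z2.1 hy2
        refine ⟨y1, y2, y3, y4, ?_⟩
        have e2 := cm_one.1 (hzc y hyE)
        have e1 : y * z * y⁻¹ * z⁻¹ = 1 := by rw [← Subgroup.mem_bot, cm_one, e2]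
        have e3 := congrArg GU.f e1
        rw [cm_f, y1, y2, y3, y4, GU.one_f] at e3
        apply (mul_eq_zero.1 (show y.e * z.b = 0 by linear_combination -e3)).resolve_right hzb'
      have key := hkb hE (E ⊓ Z4 K) (Z2 K) (le_norm hZ1E com_Z2_top) hcon inf_le_left
        (fun y hy m hm => by
          have e1 := comm_Qb_Z2 (Z4_le_Qb hm.2) hy
          rw [← e1, mul_inv_cancel_right, mul_inv_cancel]
          exact one_mem _)
      have h4 : E.relIndex (Z2 K) = Nat.card K := by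
        rw [← Subgroup.inf_relIndex_right, hint]
        exact relIndex_eq Z1_le_Z2 card_Z1 card_Z2 (by ring) (by omega)
      have h5 := (key.trans (hrel _)).trans (rel_le_two z.a z.b hall)
      rw [h4] at h5
      omega
  -- (C2) `Z₁` is invariant
  have i1 : Inv Γ (Z1 K) := by
    refine ⟨hZ1E, fun γ hγ e he => ?_⟩
    have hc := inv_el (inv_bot Γ) hγ (e := e) (fun b _ => cm_one.2 (comm_Z1 b he).symm)
    have hsq : γ e * γ e = 1 := by
      rw [← map_mul]
      have : e * e = 1 := by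
        apply Subtype.ext
        obtain ⟨z1, z2, z3, z4, z5⟩ := mem_Z1.1 he
        ext <;> simp only [Subgroup.coe_mul, Subgroup.coe_one, GU.mul_a, GU.mul_b, GU.mul_c, GU.mul_d, GU.mul_e, GU.mul_f,
          GU.one_a, GU.one_b, GU.one_c, GU.one_d, GU.one_e, GU.one_f, z1, z2, z3, z4, z5]
        all_goals first | ring1 | linear_combination (e : GU K).f * h2
      rw [this, map_one]
    have hyE := (γ e).2
    have hsq' := congrArg (fun g : E => (g : GU K).f) hsq
    simp only [Subgroup.coe_mul, Subgroup.coe_one] at hsq'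
    generalize ((γ e : E) : GU K) = y at hc hyE hsq'
    have hyb : y.b = 0 := cent_Z2.1 fun z hz => cm_one.1 (hc z (hZ2 hz))
    have e1 := Subgroup.mem_bot.1 (hc x hx)
    have f1 := congrArg GU.c e1
    rw [cm_c, hyb, GU.one_c] at f1
    have hya : y.a = 0 := (mul_eq_zero.1 (show y.a * x.b = 0 by linear_combination -f1)).resolve_right xb
    have f2 := congrArg GU.e e1
    rw [cm_e, hyb, hya, GU.one_e] at f2
    have hyd : y.d = y.c * x.a := by
      apply mul_left_cancel₀ (mul_ne_zero h3 xa)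
      linear_combination f2
    rw [GU.mul_f, hyb, hya, hyd, GU.one_f] at hsq'
    have hyc : y.c = 0 := by
      have : y.c * y.c * x.a = 0 := by
        apply mul_left_cancel₀ h3
        linear_combination hsq' - y.f * h2
      rcases mul_eq_zero.1 this with h | h
      · exact mul_self_eq_zero.1 h
      · exact absurd h xa
    rw [hyc, zero_mul] at hyd
    have f3 := congrArg GU.f e1
    rw [cm_f, hyb, hya, hyc, hyd, GU.one_f] at f3
    have hye : y.e = 0 := (mul_eq_zero.1 (show y.e * x.b = 0 by linear_combination -f3)).resolve_right xb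
    exact ⟨hya, hyb, hyc, hyd, hye⟩
  -- elements `y` with `[y, E] ≤ Z₁` lie in `Z₄`
  have hU : ∀ y ∈ E, (∀ b ∈ E, y * b * y⁻¹ * b⁻¹ ∈ Z1 K) → y ∈ Z4 K := by
    intro y hyE hy
    by_contra hy4
    have e1 := hy x hx
    rcases par h2 e1.2.2.1 e1.2.2.2.1 xa xb with h | h
    · exact hy4 h
    have ya : y.a ≠ 0 := by rw [h.1]; exact xa
    have yb : y.b ≠ 0 := by rw [h.2]; exact xb
    have hy' : ∀ b ∈ E, b * y * b⁻¹ * y⁻¹ ∈ Z1 K := by
      intro b hb
      have := (Z1 K).inv_mem (hy b hb)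
      have e : (y * b * y⁻¹ * b⁻¹)⁻¹ = b * y * b⁻¹ * y⁻¹ := by group
      rwa [e] at this
    have hall : ∀ g ∈ E, (g.a = 0 ∧ g.b = 0) ∨ (g.a = y.a ∧ g.b = y.b) := fun g hg =>
      par h2 (hy' g hg).2.2.1 (hy' g hg).2.2.2.1 ya yb
    have hd : ∀ g ∈ E ⊓ Z4 K, g.d = g.c * y.a := by
      rintro g ⟨hgE, hg4⟩
      have f := (hy' g hgE).2.2.2.2
      rw [cm_e, hg4.1, hg4.2] at f
      apply mul_left_cancel₀ (mul_ne_zero h3 ya)
      linear_combination f
    have hcard : Nat.card (E ⊓ Z4 K : Subgroup (GU K)) ≤ Nat.card K ^ 3 := by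
      have e : Nat.card (K × K × K) = Nat.card K ^ 3 := by
        simp only [Nat.card_prod]; ring
      rw [← e]
      refine Nat.card_le_card_of_injective (fun g : (E ⊓ Z4 K : Subgroup (GU K)) =>
        ((g : GU K).c, (g : GU K).e, (g : GU K).f)) ?_
      intro g g' hgg
      simp only [Prod.mk.injEq] at hgg
      obtain ⟨k1, k2, k3⟩ := hgg
      apply Subtype.ext
      ext
      · rw [g.2.2.1, g'.2.2.1]
      · rw [g.2.2.2, g'.2.2.2]
      · exact k1
      · rw [hd _ g.2, hd _ g'.2, k1]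
      · exact k2
      · exact k3
    have hZ4 : ¬ Z4 K ≤ E := by
      intro h4
      have := hd (x4 1) ⟨h4 (Z3_le_Z4 (x4_mem 1)), Z3_le_Z4 (x4_mem 1)⟩
      simp only [x4, zero_mul] at this
      exact one_ne_zero this
    have hZ1Φ : Z1 K ≤ (frattini E).map E.subtype := by
      intro z hz
      have e2 : z = y * x5 (z.f / y.b) * y⁻¹ * (x5 (z.f / y.b))⁻¹ := by
        have e3 := com_top_Z2 y trivial _ (x5_mem (z.f / y.b))
        obtain ⟨z1, z2, z3, z4, z5⟩ := mem_Z1.1 hz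
        obtain ⟨k1, k2, k3, k4, k5⟩ := mem_Z1.1 e3
        ext
        · rw [z1, k1]
        · rw [z2, k2]
        · rw [z3, k3]
        · rw [z4, k4]
        · rw [z5, k5]
        · rw [cm_f]
          simp only [x5]
          rw [show y.b * (z.f / y.b) = z.f from mul_div_cancel₀ _ yb]
          ring
      rw [e2]
      exact hEE y hyE _ (hZ2 (x5_mem _))
    have key := hkb hE (E ⊓ Z4 K) (Z4 K) (le_norm hZ2 (com_Z4_top2 h2)) hZ4 inf_le_left
      (fun w hw m hm => hZ1Φ (com_Z4 w hw m hm.2))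
    have h5 := (key.trans (hrel _)).trans (rel_le_two y.a y.b hall)
    have h6 : E.relIndex (Z4 K) * Nat.card (E ⊓ Z4 K : Subgroup (GU K)) = Nat.card K ^ 4 := by
      rw [← card_Z4, ← Subgroup.inf_relIndex_right, mul_comm, ← Subgroup.relIndex_bot_left, ← Subgroup.relIndex_bot_left]
      exact Subgroup.relIndex_mul_relIndex _ _ _ bot_le inf_le_right
    have h7 : Nat.card K ^ 4 ≤ 2 * Nat.card K ^ 3 := by
      rw [← h6]
      exact Nat.mul_le_mul h5 hcard
    have h8 : 4 * Nat.card K ^ 3 ≤ Nat.card K ^ 4 := by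
      calc 4 * Nat.card K ^ 3 ≤ Nat.card K * Nat.card K ^ 3 := Nat.mul_le_mul_right _ hq
        _ = Nat.card K ^ 4 := by ring
    have h9 : 0 < Nat.card K ^ 3 := pow_pos (by omega) 3
    omega
  -- `Z₂` is invariant
  have i2 : Inv Γ (Z2 K) := by
    refine ⟨hZ2, fun γ hγ e he => ?_⟩
    have hc := inv_el i1 hγ (e := e) (fun b _ => com_Z2_top _ he b trivial)
    have hsq : γ e * γ e = 1 := by
      rw [← map_mul]
      have : e * e = 1 := by
        apply Subtype.ext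
        obtain ⟨z1, z2, z3, z4⟩ := mem_Z2.1 he
        ext <;> simp only [Subgroup.coe_mul, Subgroup.coe_one, GU.mul_a, GU.mul_b, GU.mul_c, GU.mul_d, GU.mul_e, GU.mul_f,
          GU.one_a, GU.one_b, GU.one_c, GU.one_d, GU.one_e, GU.one_f, z1, z2, z3, z4]
        all_goals first | ring1 | linear_combination (e : GU K).f * h2 | linear_combination (e : GU K).e * h2
      rw [this, map_one]
    have hyE := (γ e).2
    have hsq' := congrArg (fun g : E => (g : GU K).f) hsq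
    simp only [Subgroup.coe_mul, Subgroup.coe_one] at hsq'
    generalize ((γ e : E) : GU K) = y at hc hyE hsq'
    have hy4 := hU y hyE hc
    obtain ⟨hya, hyb⟩ := mem_Z4.1 hy4
    have f2 := (hc x hx).2.2.2.2
    rw [cm_e, hyb, hya] at f2
    have hyd : y.d = y.c * x.a := by
      apply mul_left_cancel₀ (mul_ne_zero h3 xa)
      linear_combination f2
    rw [GU.mul_f, hyb, hya, hyd, GU.one_f] at hsq'
    have hyc : y.c = 0 := by
      have : y.c * y.c * x.a = 0 := by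
        apply mul_left_cancel₀ h3
        linear_combination hsq' - y.f * h2
      rcases mul_eq_zero.1 this with h | h
      · exact mul_self_eq_zero.1 h
      · exact absurd h xa
    rw [hyc, zero_mul] at hyd
    exact ⟨hya, hyb, hyc, hyd⟩
  -- (C3)
  have h4 : Z4 K ≤ E := by
    refine H732.PU.stChain hE (Z2 K) (Z2 K) (Z2 K) i2 i2 i2 le_rfl le_rfl (Z4 K) le_top ?_ ?_ ?_ ?_
    · exact fun y hy e _ => com_Z4_top2 h2 y hy e trivial
    · exact fun y hy e _ => com_Z4_top2 h2 y hy e trivial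
    · exact fun y hy e _ => com_Z4_top2 h2 y hy e trivial
    · exact fun y hy m hm => comm_Qb_Z2 (Z4_le_Qb hy) hm
  -- (C4)
  have ib : Inv Γ (E ⊓ Qb K) := by
    refine inv_cent iE i2 (inv_bot Γ) fun y => ⟨fun hy => ?_, fun hy => ?_⟩
    · exact ⟨hy.1, fun b hb' => cm_one.2 (comm_Qb_Z2 hy.2 hb')⟩
    · exact ⟨hy.1, cent_Z2.1 fun z hz => cm_one.1 (hy.2 z hz)⟩
  have h6 : Qb K ≤ E := by
    refine H732.PU.stChain hE (Z2 K) (Z2 K) (E ⊓ Qb K) i2 i2 ib le_rfl (le_inf hZ2 Z2_le_Qb) (Qb K) le_top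
      ?_ ?_ ?_ ?_
    · intro y _ e _
      have h7 : y * e * y⁻¹ * e⁻¹ ∈ Z4 K := com_top_top y trivial e trivial
      exact ⟨h4 h7, Z4_le_Qb h7⟩
    · exact fun y hy e he => com_Qb2 h2 y hy e he.2
    · exact fun y hy e he => com_Qb2 h2 y hy e (Z2_le_Qb he)
    · exact fun y hy m hm => comm_Qb_Z2 hy hm
  refine ⟨h6, ?_⟩
  rwa [inf_eq_right.2 h6] at ib

/-- **(E2)** -/
theorem stE2_of (hGrp : StGrp.{u}) (hEss : StEss.{u}) (hOver : StOver.{u}) (hTI : StTI.{u}) (hEa : StEa.{u})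
    (h2b : StE2b.{u}) (h2c : StE2c.{u}) : StE2.{u} := by
  intro K _ p n _ hK hp hn F hF E hE
  subst hp
  have hfin : Finite (GU K) := by
    apply Nat.finite_of_card_ne_zero
    rw [(hGrp hK).1]
    exact pow_ne_zero _ (pow_ne_zero _ (Nat.Prime.ne_zero Fact.out))
  have hS : IsPGroup 2 (⊤ : Subgroup (GU K)) := (hGrp hK).2.1
  have he : Ess (⊤ : Subgroup (GU K)) E 2 (F.autGroup E) := hEss F E hS hF hE
  have h2n : 2 < 2 ^ n := by
    calc 2 < 2 ^ 2 := by norm_num
      _ ≤ 2 ^ n := Nat.pow_le_pow_right (by norm_num) hn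
  by_cases ha : E ≤ Qa K
  · exact Or.inl (hEa hK (by omega) h2n he ha)
  right
  by_cases hb : E ≤ Qb K
  · exact h2b hK hn he hb ha
  · obtain ⟨h1, h2⟩ := h2c hK hn he hb ha
    obtain ⟨hT, hC, -, hchar, -⟩ := hTI hK h2n (Qb K) (Or.inr rfl)
    have hn := top_le_normalizer_of_char (hchar (by omega))
    exact hOver F (Qb K) E hS hF hE h1 hn hC (hT _ (autInducedBy_le_autGroup F le_top) (syl_of_normal hS hF hn)) h2

end Cfsg.Agent.H752.GT
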